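import Cfsg.Agent.U62Rec.Check.RedIM
import Cfsg.Agent.U62Rec.Main

/-!
# A reducible configuration (RedIM)

Here `G = H·O(G)`.
-/

set_option autoImplicit false
set_option maxRecDepth 65536
set_option maxHeartbeats 4000000

namespace Cfsg.Agent.U62Rec.RedIM

theorem sides_ok : sidesOK [(oc0, row0), (oc1, row1)] = true := by decide +kernel

/-- The result for this configuration. -/
theorem main {G : Type*} [Group G] [Finite G] {z : G} (M : Mod ⟨gens, lin⟩ z) :
    Subgroup.centralizer ({z} : Set G) ⊔ Cfsg.oddCore G = ⊤ :=
  red_main M facts sides_ok (by decide +kernel)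

end Cfsg.Agent.U62Rec.RedIM
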